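import Groth.Prelude.Def_W4stkfunctorsequivSib
import Mathlib.Algebra.Homology.DerivedCategory.SingleTriangle
import Mathlib.Algebra.Homology.DerivedCategory.Fractions
import Mathlib.Algebra.Homology.DerivedCategory.FullyFaithful
import Mathlib.CategoryTheory.Triangulated.Subcategory
import Mathlib.CategoryTheory.Triangulated.TStructure.TruncLTGE
import Mathlib.CategoryTheory.Triangulated.Functor
import Mathlib.CategoryTheory.Triangulated.Triangulated
import Mathlib.Algebra.Homology.HomotopyCategory.Triangulated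
import Mathlib.Algebra.Homology.HomologicalComplexAbelian

/-!
# Dévissage in the bounded derived category and siblings
-/

set_option autoImplicit false
set_option backward.isDefEq.respectTransparency false
set_option linter.style.haveILetI false
set_option linter.unusedSectionVars false

universe w v u v' u'

open CategoryTheory CategoryTheory.Limits CategoryTheory.Pretriangulated DerivedCategory
open DerivedCategory.TStructure

namespace Groth.Agent.Siblings17

variable {A : Type u} [Category.{v} A] [Abelian A] [HasDerivedCategory.{w} A]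

local notation "B" => DerivedCategory.Bounded A

local instance : (DEquiv.singleB A).Full :=
  inferInstanceAs (Functor.Full (ObjectProperty.lift _ _ _))

/-- An object built from objects of the heart with a chosen top term. -/
def Top : ℕ → ∀ (K : DerivedCategory.Bounded A) (X : A), ((DEquiv.singleB A).obj X ⟶ K) → Prop
  | 0, _, _, i => IsIso i
  | n + 1, K, X, i => ∃ (K' : DerivedCategory.Bounded A) (X' : A) (i' : (DEquiv.singleB A).obj X' ⟶ K')
      (δ : K' ⟶ (DEquiv.singleB A).obj X) (h : K ⟶ K'⟦(1 : ℤ)⟧),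
      Top n K' X' i' ∧ Triangle.mk δ i h ∈ distTriang (DerivedCategory.Bounded A)

omit [HasDerivedCategory.{w} A] in
theorem isZero_single_X (X : A) (n : ℤ) (hn : n ≠ 0) :
    IsZero (((HomologicalComplex.single A (ComplexShape.up ℤ) 0).obj X).X n) :=
  HomologicalComplex.isZero_single_obj_X (ComplexShape.up ℤ) 0 X n hn

theorem exists_top : ∀ (n : ℕ) (K : DerivedCategory.Bounded A), K.obj.IsGE (-(n : ℤ)) → K.obj.IsLE 0 →
    ∃ (X : A) (i : (DEquiv.singleB A).obj X ⟶ K), Top n K X i := by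
  intro n
  induction n with
  | zero =>
    intro K h1 h2
    rw [Nat.cast_zero, neg_zero] at h1
    obtain ⟨Y, ⟨e⟩⟩ := exists_iso_singleFunctor_obj_of_isGE_of_isLE K.obj 0
    exact ⟨Y, (ObjectProperty.isoMk _ (X := (DEquiv.singleB A).obj Y) (Y := K) e.symm).hom,
      show IsIso _ from inferInstance⟩
  | succ n ih =>
    intro K h1 h2
    obtain ⟨L, hGE, hLE, ⟨e⟩⟩ := exists_iso_Q_obj_of_isGE_of_isLE K.obj (-((n + 1 : ℕ) : ℤ)) 0
    have hd : L.d 0 (0 + 1) = 0 := (CochainComplex.isZero_of_isStrictlyLE L 0 (0 + 1) (by omega)).eq_of_tgt _ _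
    let ι : (HomologicalComplex.single A (ComplexShape.up ℤ) 0).obj (L.X 0) ⟶ L :=
      HomologicalComplex.mkHomFromSingle (𝟙 (L.X 0)) (fun j hj => by
        obtain rfl : (0 : ℤ) + 1 = j := hj
        rw [hd, comp_zero])
    have hι : ∀ m, Mono (ι.f m) := fun m => by
      by_cases hm : m = 0
      · subst hm; simp only [ι, HomologicalComplex.mkHomFromSingle_f]; infer_instance
      · constructor; intro Z a b _; exact (isZero_single_X _ _ hm).eq_of_tgt a b
    have : Mono ι := HomologicalComplex.mono_of_mono_f ι hι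
    let S := ShortComplex.mk ι (cokernel.π ι) (cokernel.condition ι)
    have hS : S.ShortExact :=
      { exact := ShortComplex.exact_cokernel ι
        mono_f := inferInstanceAs (Mono ι)
        epi_g := inferInstanceAs (Epi (cokernel.π ι)) }
    have hC : ∀ m : ℤ, (0 ≤ m ∨ m < -((n + 1 : ℕ) : ℤ)) → IsZero ((cokernel ι).X m) := by
      intro m hm
      have : Epi ((cokernel.π ι).f m) :=
        inferInstanceAs (Epi ((HomologicalComplex.eval A (ComplexShape.up ℤ) m).map (cokernel.π ι)))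
      have hw : ι.f m ≫ (cokernel.π ι).f m = 0 := by
        rw [← HomologicalComplex.comp_f, cokernel.condition]; rfl
      rw [IsZero.iff_id_eq_zero, ← cancel_epi ((cokernel.π ι).f m), Category.comp_id, comp_zero]
      by_cases h0 : m = 0
      · subst h0
        have : IsIso (ι.f 0) := by simp only [ι, HomologicalComplex.mkHomFromSingle_f]; infer_instance
        exact (cancel_epi (ι.f 0)).1 (hw.trans comp_zero.symm)
      · rcases hm with hm | hm
        · exact (CochainComplex.isZero_of_isStrictlyLE L 0 m (by omega)).eq_of_src _ _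
        · exact (CochainComplex.isZero_of_isStrictlyGE L (-((n + 1 : ℕ) : ℤ)) m hm).eq_of_src _ _
    have : CochainComplex.IsStrictlyGE (cokernel ι) (-((n + 1 : ℕ) : ℤ)) := (CochainComplex.isStrictlyGE_iff _ _).2 fun i hi => hC i (Or.inr hi)
    have : CochainComplex.IsStrictlyLE (cokernel ι) (-1) := (CochainComplex.isStrictlyLE_iff _ _).2 fun i hi => hC i (Or.inl (by omega))
    have hK'1 : ((Q.obj (cokernel ι))⟦(-1 : ℤ)⟧).IsGE (-(n : ℤ)) :=
      t.isGE_shift (Q.obj (cokernel ι)) (-((n + 1 : ℕ) : ℤ)) (-1) (-(n : ℤ)) (by push_cast; omega)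
    have hK'2 : ((Q.obj (cokernel ι))⟦(-1 : ℤ)⟧).IsLE 0 :=
      t.isLE_shift (Q.obj (cokernel ι)) (-1) (-1) 0 (by omega)
    let K' : DerivedCategory.Bounded A := ⟨(Q.obj (cokernel ι))⟦(-1 : ℤ)⟧, ⟨⟨_, hK'1⟩, ⟨_, hK'2⟩⟩⟩
    obtain ⟨X', i', hi'⟩ := ih K' hK'1 hK'2
    let T := (triangleOfSES hS).invRotate
    have hT : T ∈ distTriang (DerivedCategory A) := inv_rot_of_distTriang _ (triangleOfSES_distinguished hS)
    let σ : T.obj₂ ≅ (singleFunctor A 0).obj (L.X 0) := ((singleFunctorIsoCompQ A 0).app (L.X 0)).symm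
    let δ : K' ⟶ (DEquiv.singleB A).obj (L.X 0) := ObjectProperty.homMk (T.mor₁ ≫ σ.hom)
    let i : (DEquiv.singleB A).obj (L.X 0) ⟶ K := ObjectProperty.homMk (σ.inv ≫ T.mor₂ ≫ e.inv)
    let h : K ⟶ K'⟦(1 : ℤ)⟧ := ObjectProperty.homMk (e.hom ≫ T.mor₃ ≫ ((t (C := A)).bounded.ι.commShiftIso (1 : ℤ)).inv.app K')
    refine ⟨_, i, K', X', i', δ, h, hi', ?_⟩
    refine isomorphic_distinguished T hT _ ?_
    refine Triangle.isoMk _ _ (Iso.refl _) σ.symm e ?_ ?_ ?_
    · change (T.mor₁ ≫ σ.hom) ≫ σ.inv = 𝟙 _ ≫ T.mor₁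
      rw [Category.assoc, σ.hom_inv_id, Category.comp_id, Category.id_comp]
    · change (σ.inv ≫ T.mor₂ ≫ e.inv) ≫ e.hom = σ.inv ≫ T.mor₂
      simp
    · change ((e.hom ≫ T.mor₃ ≫ ((t (C := A)).bounded.ι.commShiftIso (1 : ℤ)).inv.app K') ≫
        ((t (C := A)).bounded.ι.commShiftIso (1 : ℤ)).hom.app K') ≫ (shiftFunctor _ (1 : ℤ)).map (𝟙 _) = e.hom ≫ T.mor₃
      erw [CategoryTheory.Functor.map_id, Category.comp_id, Category.assoc, Category.assoc,
        Iso.inv_hom_id_app, Category.comp_id]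

theorem exists_shift_top (K : DerivedCategory.Bounded A) :
    ∃ (b : ℤ) (n : ℕ) (X : A) (i : (DEquiv.singleB A).obj X ⟶ K⟦b⟧), Top n (K⟦b⟧) X i := by
  obtain ⟨⟨a, ha⟩, ⟨b, hb⟩⟩ := K.property
  have : K.obj.IsGE (b - (b - a).toNat) := t.isGE_of_ge K.obj _ a (by omega)
  have h1 : (K.obj⟦b⟧).IsGE (-((b - a).toNat : ℤ)) :=
    t.isGE_shift K.obj (b - (b - a).toNat) b _ (by omega)
  have h2 : (K.obj⟦b⟧).IsLE 0 := t.isLE_shift K.obj b b 0 (by omega)
  have e : K.obj⟦b⟧ ≅ (K⟦b⟧).obj := ((t (C := A)).bounded.ι.commShiftIso b).symm.app K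
  exact ⟨b, (b - a).toNat, exists_top _ _ (t.isGE_of_iso e _) (t.isLE_of_iso e _)⟩

section Sib

variable {D : Type u'} [Category.{v'} D] [Preadditive D] [HasZeroObject D] [HasShift D ℤ]
  [∀ n : ℤ, (shiftFunctor D n).Additive] [Pretriangulated D]
  (F F' : DerivedCategory.Bounded A ⥤ D) [F.CommShift ℤ] [F.IsTriangulated]
  [F'.CommShift ℤ] [F'.IsTriangulated]

variable (h2 : ∀ (X Y : A) (q : ℤ), q < 0 →
      ∀ f : F.obj ((DEquiv.singleB A).obj X) ⟶ (shiftFunctor D q).obj (F.obj ((DEquiv.singleB A).obj Y)),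
        f = 0)

include h2 in
theorem hom_eq_zero : ∀ (n : ℕ) (K : DerivedCategory.Bounded A) (X : A) (i : (DEquiv.singleB A).obj X ⟶ K), Top n K X i →
    ∀ (Y : A) (q : ℤ), q < 0 →
      ∀ f : F.obj K ⟶ (shiftFunctor D q).obj (F.obj ((DEquiv.singleB A).obj Y)), f = 0 := by
  intro n
  induction n with
  | zero =>
    intro K X i (hi : IsIso i) Y q hq f
    rw [← cancel_epi (F.map i), comp_zero]
    exact h2 X Y q hq _
  | succ n ih =>
    rintro K X i ⟨K', X', i', δ, h, hK', hT⟩ Y q hq f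
    obtain ⟨g, rfl⟩ := Triangle.yoneda_exact₃ _ (F.map_distinguished _ hT) f (h2 X Y q hq _)
    obtain ⟨g', hg'⟩ := (shiftFunctor D (1 : ℤ)).map_surjective
      (Y := (F.obj ((DEquiv.singleB A).obj Y))⟦q - 1⟧)
      (g ≫ (shiftFunctorAdd' D (q - 1) 1 q (by omega)).hom.app _)
    have h0 : g' = 0 := ih K' X' i' hK' Y (q - 1) (by omega) g'
    rw [h0, Functor.map_zero] at hg'
    have hg : g = 0 := (cancel_mono ((shiftFunctorAdd' D (q - 1) 1 q (by omega)).hom.app _)).1
      (hg'.symm.trans zero_comp.symm)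
    rw [hg, comp_zero]

include h2 in
theorem hom_ext (n : ℕ) (K : DerivedCategory.Bounded A) (X : A) (i : (DEquiv.singleB A).obj X ⟶ K)
    (hK : Top n K X i) (Y : A) (f : F.obj K ⟶ F.obj ((DEquiv.singleB A).obj Y))
    (hf : F.map i ≫ f = 0) : f = 0 := by
  cases n with
  | zero =>
    have : IsIso i := hK
    rw [← cancel_epi (F.map i), hf, comp_zero]
  | succ n =>
    obtain ⟨K', X', i', δ, h, hK', hT⟩ := hK
    obtain ⟨g, rfl⟩ := Triangle.yoneda_exact₃ _ (F.map_distinguished _ hT) f hf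
    obtain ⟨g', hg'⟩ := (shiftFunctor D (1 : ℤ)).map_surjective
      (Y := (F.obj ((DEquiv.singleB A).obj Y))⟦(-1 : ℤ)⟧)
      (g ≫ (shiftEquiv D (1 : ℤ)).counitIso.inv.app _)
    have h0 : g' = 0 := hom_eq_zero F h2 n K' X' i' hK' Y (-1) (by omega) g'
    rw [h0, Functor.map_zero] at hg'
    have hg : g = 0 := (cancel_mono ((shiftEquiv D (1 : ℤ)).counitIso.inv.app _)).1 (hg'.symm.trans zero_comp.symm)
    rw [hg, comp_zero]

variable (θ : DEquiv.singleB A ⋙ F ≅ DEquiv.singleB A ⋙ F')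

include h2 θ in
theorem exists_iso : ∀ (n : ℕ) (K : DerivedCategory.Bounded A) (X : A) (i : (DEquiv.singleB A).obj X ⟶ K), Top n K X i →
    ∃ ε : F.obj K ≅ F'.obj K, F.map i ≫ ε.hom = θ.hom.app X ≫ F'.map i := by
  intro n
  induction n with
  | zero =>
    intro K X i (hi : IsIso i)
    refine ⟨(asIso (F.map i)).symm ≪≫ θ.app X ≪≫ asIso (F'.map i), ?_⟩
    simp only [Iso.trans_hom, Iso.symm_hom, asIso_inv, asIso_hom, Iso.app_hom, IsIso.hom_inv_id_assoc]
  | succ n ih =>
    rintro K X i ⟨K', X', i', δ, h, hK', hT⟩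
    obtain ⟨ε', hε'⟩ := ih K' X' i' hK'
    obtain ⟨d, hd⟩ := (DEquiv.singleB A).map_surjective (i' ≫ δ)
    have hnat := θ.hom.naturality d
    simp only [Functor.comp_map, hd, Functor.map_comp] at hnat
    have comm : F.map δ ≫ θ.hom.app X = ε'.hom ≫ F'.map δ := by
      have h0 : F.map δ ≫ θ.hom.app X ≫ θ.inv.app X - (ε'.hom ≫ F'.map δ) ≫ θ.inv.app X = 0 := by
        refine hom_ext F h2 n K' X' i' hK' X _ ?_
        rw [Preadditive.comp_sub, sub_eq_zero, ← Category.assoc, ← Category.assoc, hnat,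
          Category.assoc ε'.hom, ← Category.assoc (F.map i') ε'.hom, hε']
        simp only [Category.assoc]
      rw [← cancel_mono (θ.inv.app X), Category.assoc]
      exact sub_eq_zero.1 h0
    obtain ⟨c, hc₂, hc₃⟩ := complete_distinguished_triangle_morphism _ _
      (F.map_distinguished _ hT) (F'.map_distinguished _ hT) ε'.hom (θ.hom.app X) comm
    let φ : F.mapTriangle.obj (Triangle.mk δ i h) ⟶ F'.mapTriangle.obj (Triangle.mk δ i h) :=
      { hom₁ := ε'.hom, hom₂ := θ.hom.app X, hom₃ := c, comm₁ := comm, comm₂ := hc₂, comm₃ := hc₃ }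
    have : IsIso φ.hom₃ := isIso₃_of_isIso₁₂ φ (F.map_distinguished _ hT) (F'.map_distinguished _ hT)
      (by dsimp [φ]; infer_instance) (by dsimp [φ]; infer_instance)
    exact ⟨@asIso _ _ _ _ c this, hc₂⟩

include h2 θ in
theorem nonempty_iso (K : DerivedCategory.Bounded A) : Nonempty (F.obj K ≅ F'.obj K) := by
  obtain ⟨b, n, X, i, hi⟩ := exists_shift_top K
  obtain ⟨ε, -⟩ := exists_iso F F' h2 θ n _ X i hi
  exact ⟨(shiftFunctor D b).preimageIso
    (((F.commShiftIso b).app K).symm ≪≫ ε ≪≫ (F'.commShiftIso b).app K)⟩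

end Sib

end Groth.Agent.Siblings17
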