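import Groth.Agent.TriSerre17.Siblings

/-!
# Full faithfulness passes between siblings
-/

set_option autoImplicit false
set_option backward.isDefEq.respectTransparency false
set_option linter.style.haveILetI false
set_option linter.unusedSectionVars false

universe w v u v' u'

open CategoryTheory CategoryTheory.Limits CategoryTheory.Pretriangulated DerivedCategory
open DerivedCategory.TStructure

namespace Groth.Agent.Siblings17

variable {A : Type u} [Category.{v} A] [Abelian A] [HasDerivedCategory.{w} A]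

local notation "B" => DerivedCategory.Bounded A

local instance : (DEquiv.singleB A).Full :=
  inferInstanceAs (Functor.Full (ObjectProperty.lift _ _ _))

local instance : (DEquiv.singleB A).Faithful :=
  inferInstanceAs (Functor.Faithful (ObjectProperty.lift _ _ _))

instance singleB_isGE (X : A) : ((DEquiv.singleB A).obj X).obj.IsGE 0 :=
  inferInstanceAs (((singleFunctor A 0).obj X).IsGE 0)

instance singleB_isLE (X : A) : ((DEquiv.singleB A).obj X).obj.IsLE 0 :=
  inferInstanceAs (((singleFunctor A 0).obj X).IsLE 0)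

theorem neg_hom_eq_zero (X Y : A) (q : ℤ) (hq : q < 0)
    (f : (DEquiv.singleB A).obj X ⟶ ((DEquiv.singleB A).obj Y)⟦q⟧) : f = 0 := by
  let sY := (DEquiv.singleB A).obj Y
  have h1 : (sY.obj⟦q⟧).IsGE (-q) := t.isGE_shift sY.obj 0 q (-q) (by omega)
  have : ((sY⟦q⟧ : DerivedCategory.Bounded A)).obj.IsGE (-q) :=
    have e : sY.obj⟦q⟧ ≅ ((sY⟦q⟧ : DerivedCategory.Bounded A)).obj :=
      ((t (C := A)).bounded.ι.commShiftIso q).symm.app sY
    t.isGE_of_iso e _
  exact ObjectProperty.hom_ext _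
    (t.zero_of_isLE_of_isGE f.hom 0 (-q) (by omega) (singleB_isLE X) this)

/-- A morphism from an object of the heart to a positive shift of one is killed by an epimorphism. -/
theorem exists_epi_comp_eq_zero (X Y : A) (q : ℤ) (hq : 1 ≤ q)
    (f : (DEquiv.singleB A).obj X ⟶ ((DEquiv.singleB A).obj Y)⟦q⟧) :
    ∃ (X' : A) (p : X' ⟶ X), Epi p ∧ (DEquiv.singleB A).map p ≫ f = 0 := by
  let sY := (DEquiv.singleB A).obj Y
  let E := ((HomologicalComplex.single A (ComplexShape.up ℤ) 0).obj Y)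
  let eY : (sY⟦q⟧).obj ≅ Q.obj ((CategoryTheory.shiftFunctor (CochainComplex A ℤ) q).obj E) :=
    ((t (C := A)).bounded.ι.commShiftIso q).app sY ≪≫
      (shiftFunctor (DerivedCategory A) q).mapIso ((singleFunctorIsoCompQ A 0).app Y) ≪≫
      ((Q.commShiftIso q).app E).symm
  let σ := (singleFunctorIsoCompQ A 0).app X
  obtain ⟨K, hK, s, hs, g, hg⟩ := right_fac_of_isStrictlyLE
    (X := (HomologicalComplex.single A (ComplexShape.up ℤ) 0).obj X) (σ.inv ≫ f.hom ≫ eY.hom) 0
  have hd : K.d 0 (0 + 1) = 0 := (CochainComplex.isZero_of_isStrictlyLE K 0 (0 + 1) (by omega)).eq_of_tgt _ _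
  let a : (HomologicalComplex.single A (ComplexShape.up ℤ) 0).obj (K.X 0) ⟶ K :=
    HomologicalComplex.mkHomFromSingle (𝟙 (K.X 0)) (fun j hj => by
      obtain rfl : (0 : ℤ) + 1 = j := hj
      rw [hd, comp_zero])
  obtain ⟨p, hp⟩ := (HomologicalComplex.single A (ComplexShape.up ℤ) 0).map_surjective (a ≫ s)
  have hag : a ≫ g = 0 := by
    ext
    exact IsZero.eq_of_tgt (isZero_single_X Y (0 + q) (by omega)) _ _
  have hnat : ∀ {Z W : A} (u : Z ⟶ W),
      Q.map ((HomologicalComplex.single A (ComplexShape.up ℤ) 0).map u) =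
        (singleFunctorIsoCompQ A 0).inv.app Z ≫ (singleFunctor A 0).map u ≫
          (singleFunctorIsoCompQ A 0).hom.app W := fun u =>
    (NatIso.naturality_1 (singleFunctorIsoCompQ A 0) u).symm
  refine ⟨K.X 0, p, ⟨fun {W} u v huv => ?_⟩, ObjectProperty.hom_ext _ ?_⟩
  · rw [← sub_eq_zero]
    apply (singleFunctor A 0).map_injective
    have h0 : p ≫ (u - v) = 0 := by rw [Preadditive.comp_sub, huv, sub_self]
    have h1 : s ≫ (HomologicalComplex.single A (ComplexShape.up ℤ) 0).map (u - v) = 0 := by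
      ext
      have := congrArg (fun φ => HomologicalComplex.Hom.f φ 0)
        (congrArg (HomologicalComplex.single A (ComplexShape.up ℤ) 0).map h0)
      simp only [Functor.map_comp, hp, Functor.map_zero] at this
      simp [a] at this
      rw [← Preadditive.comp_sub] at this
      simpa using (cancel_epi _).1 (this.trans comp_zero.symm)
    have h2 : Q.map ((HomologicalComplex.single A (ComplexShape.up ℤ) 0).map (u - v)) = 0 := by
      rw [← cancel_epi (Q.map s), ← Functor.map_comp, h1, Functor.map_zero, comp_zero]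
    rw [hnat] at h2
    rw [Functor.map_zero, ← cancel_mono ((singleFunctorIsoCompQ A 0).hom.app W),
      ← cancel_epi ((singleFunctorIsoCompQ A 0).inv.app X), zero_comp, comp_zero, h2]
  · change (singleFunctor A 0).map p ≫ f.hom = 0
    rw [← cancel_epi ((singleFunctorIsoCompQ A 0).inv.app (K.X 0)), ← cancel_mono eY.hom, comp_zero, zero_comp]
    have h3 := hnat p
    rw [hp] at h3
    have : ((singleFunctorIsoCompQ A 0).inv.app (K.X 0) ≫ (singleFunctor A 0).map p ≫
        (singleFunctorIsoCompQ A 0).hom.app X) ≫ σ.inv ≫ f.hom ≫ eY.hom = 0 := by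
      rw [← h3, hg, Functor.map_comp, Category.assoc, IsIso.hom_inv_id_assoc, ← Functor.map_comp, hag,
        Functor.map_zero]
    simpa only [Category.assoc, σ, Iso.app_inv, Iso.hom_inv_id_app_assoc] using this

section Bij

variable {D : Type u'} [Category.{v'} D] [Preadditive D] [HasZeroObject D] [HasShift D ℤ]
  [∀ n : ℤ, (shiftFunctor D n).Additive] [Pretriangulated D]
  (G : DerivedCategory.Bounded A ⥤ D) [G.CommShift ℤ] [G.IsTriangulated]

/-- Bijectivity of a functor on the morphisms between two objects. -/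
def Bij (P R : DerivedCategory.Bounded A) : Prop :=
  Function.Bijective (fun f : P ⟶ R => G.map f)

variable {G}

theorem Bij.of_iso {P R P' R' : DerivedCategory.Bounded A} (h : Bij G P R) (a : P ≅ P') (b : R ≅ R') :
    Bij G P' R' := by
  constructor
  · intro f g hfg
    have : a.hom ≫ f ≫ b.inv = a.hom ≫ g ≫ b.inv := h.1 (by simp only [Functor.map_comp, show G.map f = G.map g from hfg])
    simpa using this
  · intro φ
    obtain ⟨f, hf⟩ := h.2 (G.map a.hom ≫ φ ≫ G.map b.inv)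
    refine ⟨a.inv ≫ f ≫ b.hom, ?_⟩
    change G.map _ = φ
    rw [Functor.map_comp, Functor.map_comp, show G.map f = _ from hf]
    simp

theorem Bij.shift {P R : DerivedCategory.Bounded A} (h : Bij G P R) (n : ℤ) :
    Bij G (P⟦n⟧) (R⟦n⟧) := by
  constructor
  · intro f g hfg
    obtain ⟨f, rfl⟩ := (shiftFunctor (DerivedCategory.Bounded A) n).map_surjective f
    obtain ⟨g, rfl⟩ := (shiftFunctor (DerivedCategory.Bounded A) n).map_surjective g
    congr 1
    apply h.1
    apply (shiftFunctor D n).map_injective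
    change (G ⋙ shiftFunctor D n).map f = (G ⋙ shiftFunctor D n).map g
    rw [← NatIso.naturality_1 (G.commShiftIso n) f, ← NatIso.naturality_1 (G.commShiftIso n) g]
    simp only [Functor.comp_map, show G.map ((shiftFunctor _ n).map f) = _ from hfg]
  · intro φ
    obtain ⟨φ', hφ'⟩ := (shiftFunctor D n).map_surjective
      ((G.commShiftIso n).inv.app P ≫ φ ≫ (G.commShiftIso n).hom.app R)
    obtain ⟨f, hf⟩ := h.2 φ'
    refine ⟨(shiftFunctor _ n).map f, ?_⟩
    have := NatIso.naturality_2 (G.commShiftIso n) f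
    simp only [Functor.comp_map] at this
    change G.map ((shiftFunctor _ n).map f) = φ
    rw [← this, show G.map f = φ' from hf, hφ']
    simp

theorem Bij.devissage_src {T : Triangle (DerivedCategory.Bounded A)} (hT : T ∈ distTriang _) {R : DerivedCategory.Bounded A}
    (h₂ : Bij G T.obj₂ R) (h₁ : Bij G T.obj₁ R) (h₁' : Bij G (T.obj₁⟦(1 : ℤ)⟧) R)
    (h₂' : Bij G (T.obj₂⟦(1 : ℤ)⟧) R) : Bij G T.obj₃ R := by
  have hG := G.map_distinguished _ hT
  constructor
  · intro f f' hff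
    rw [← sub_eq_zero]
    have h0 : G.map (f - f') = 0 := by rw [Functor.map_sub, sub_eq_zero]; exact hff
    obtain ⟨g, hg⟩ := Triangle.yoneda_exact₃ _ hT (f - f') (h₂.1 (by
      change G.map _ = G.map 0
      rw [Functor.map_comp, h0, comp_zero, Functor.map_zero]))
    rw [hg] at h0 ⊢
    obtain ⟨w, hw⟩ := Triangle.yoneda_exact₃ _ (rot_of_distTriang _ hG)
      ((G.commShiftIso (1 : ℤ)).inv.app T.obj₁ ≫ G.map g) (by
        change (G.map T.mor₃ ≫ (G.commShiftIso (1 : ℤ)).hom.app T.obj₁) ≫ _ = 0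
        simp only [Category.assoc, Iso.hom_inv_id_app_assoc]
        rw [← Functor.map_comp, h0])
    obtain ⟨w₀, hw₀⟩ := h₂'.2 ((G.commShiftIso (1 : ℤ)).hom.app T.obj₂ ≫ w)
    have : g = (-(shiftFunctor _ (1 : ℤ)).map T.mor₁) ≫ w₀ := h₁'.1 (by
      change G.map g = G.map _
      change _ = (-(shiftFunctor D (1 : ℤ)).map (G.map T.mor₁)) ≫ w at hw
      have hn := (G.commShiftIso (1 : ℤ)).hom.naturality T.mor₁
      simp only [Functor.comp_map] at hn
      rw [← cancel_epi ((G.commShiftIso (1 : ℤ)).inv.app T.obj₁), hw, Functor.map_comp,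
        show G.map w₀ = _ from hw₀, Functor.map_neg, Preadditive.neg_comp, Preadditive.neg_comp,
        Preadditive.comp_neg, neg_inj, reassoc_of% hn]
      simp)
    rw [this, ← Category.assoc, Preadditive.comp_neg, comp_distTriang_mor_zero₃₁ _ hT]
    simp
  · intro φ
    obtain ⟨u, hu⟩ := h₂.2 (G.map T.mor₂ ≫ φ)
    have hu' : G.map u = G.map T.mor₂ ≫ φ := hu
    obtain ⟨f₀, hf₀⟩ := Triangle.yoneda_exact₂ _ hT u (h₁.1 (by
      change G.map _ = G.map 0
      rw [Functor.map_comp, hu', ← Category.assoc, ← Functor.map_comp,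
        comp_distTriang_mor_zero₁₂ _ hT, Functor.map_zero, zero_comp, Functor.map_zero]))
    obtain ⟨w, hw⟩ := Triangle.yoneda_exact₃ _ hG (φ - G.map f₀) (by
      change G.map T.mor₂ ≫ _ = 0
      rw [Preadditive.comp_sub, ← hu', ← Functor.map_comp, ← hf₀, sub_self])
    obtain ⟨g, hg⟩ := h₁'.2 ((G.commShiftIso (1 : ℤ)).hom.app T.obj₁ ≫ w)
    refine ⟨f₀ + T.mor₃ ≫ g, ?_⟩
    change G.map _ = φ
    change φ - G.map f₀ = (G.map T.mor₃ ≫ (G.commShiftIso (1 : ℤ)).hom.app T.obj₁) ≫ w at hw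
    rw [Functor.map_add, Functor.map_comp, show G.map g = _ from hg, ← Category.assoc, ← hw]
    abel

theorem Bij.devissage_tgt {T : Triangle (DerivedCategory.Bounded A)} (hT : T ∈ distTriang _) {P : DerivedCategory.Bounded A}
    (h₂ : Bij G P T.obj₂) (h₁ : Bij G P T.obj₁) (h₁' : Bij G P (T.obj₁⟦(1 : ℤ)⟧))
    (h₂' : Bij G P (T.obj₂⟦(1 : ℤ)⟧)) : Bij G P T.obj₃ := by
  have hG := G.map_distinguished _ hT
  constructor
  · intro f f' hff
    rw [← sub_eq_zero]
    have h0 : G.map (f - f') = 0 := by rw [Functor.map_sub, sub_eq_zero]; exact hff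
    obtain ⟨g, hg⟩ := Triangle.coyoneda_exact₃ _ hT (f - f') (h₁'.1 (by
      change G.map _ = G.map 0
      rw [Functor.map_comp, h0, zero_comp, Functor.map_zero]))
    rw [hg] at h0 ⊢
    obtain ⟨w, hw⟩ := Triangle.coyoneda_exact₂ _ hG (G.map g) (by
      change G.map g ≫ G.map T.mor₂ = 0
      rw [← Functor.map_comp, h0])
    obtain ⟨w₀, hw₀⟩ := h₁.2 w
    have : g = w₀ ≫ T.mor₁ := h₂.1 (by
      change G.map g = G.map _
      rw [Functor.map_comp, show G.map w₀ = w from hw₀]
      exact hw)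
    rw [this, Category.assoc, comp_distTriang_mor_zero₁₂ _ hT, comp_zero]
  · intro φ
    obtain ⟨u, hu⟩ := h₁'.2 (φ ≫ G.map T.mor₃)
    have hu' : G.map u = φ ≫ G.map T.mor₃ := hu
    obtain ⟨f₀, hf₀⟩ := Triangle.coyoneda_exact₁ _ hT u (h₂'.1 (by
      change G.map _ = G.map 0
      rw [Functor.map_comp, hu', Category.assoc, ← Functor.map_comp,
        comp_distTriang_mor_zero₃₁ _ hT, Functor.map_zero, comp_zero, Functor.map_zero]))
    obtain ⟨w, hw⟩ := Triangle.coyoneda_exact₃ _ hG (φ - G.map f₀) (by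
      change (φ - G.map f₀) ≫ G.map T.mor₃ ≫ (G.commShiftIso (1 : ℤ)).hom.app T.obj₁ = 0
      rw [← Category.assoc, Preadditive.sub_comp, ← hu', ← Functor.map_comp, ← hf₀, sub_self, zero_comp])
    obtain ⟨g, hg⟩ := h₂.2 w
    refine ⟨f₀ + g ≫ T.mor₂, ?_⟩
    change G.map _ = φ
    rw [Functor.map_add, Functor.map_comp, show G.map g = w from hg,
      show w ≫ G.map T.mor₂ = φ - G.map f₀ from hw.symm, add_sub_cancel]

theorem Bij.all (h : ∀ (X Y : A) (q : ℤ), Bij G ((DEquiv.singleB A).obj X) (((DEquiv.singleB A).obj Y)⟦q⟧))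
    (P R : DerivedCategory.Bounded A) : Bij G P R := by
  have h' : ∀ (n : ℕ) (K : DerivedCategory.Bounded A) (X : A) (i : (DEquiv.singleB A).obj X ⟶ K), Top n K X i →
      ∀ (Y : A) (m : ℤ), Bij G (K⟦m⟧) ((DEquiv.singleB A).obj Y) := by
    intro n
    induction n with
    | zero =>
      intro K X i (hi : IsIso i) Y m
      exact (((h X Y (-m)).of_iso (asIso i) (Iso.refl _)).shift m).of_iso (Iso.refl _)
        ((shiftFunctorCompIsoId _ (-m) m (by omega)).app _)
    | succ n ih =>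
      rintro K X i ⟨K', X', i', δ, g, hK', hT⟩ Y m
      have hs : ∀ k : ℤ, Bij G (((DEquiv.singleB A).obj X)⟦k⟧) ((DEquiv.singleB A).obj Y) := fun k =>
        ((h X Y (-k)).shift k).of_iso (Iso.refl _) ((shiftFunctorCompIsoId _ (-k) k (by omega)).app _)
      exact Bij.devissage_src (Triangle.shift_distinguished _ hT m)
        (hs m) (ih K' X' i' hK' Y m)
        ((ih K' X' i' hK' Y (m + 1)).of_iso ((shiftFunctorAdd' _ m 1 (m + 1) rfl).app _) (Iso.refl _))
        ((hs (m + 1)).of_iso ((shiftFunctorAdd' _ m 1 (m + 1) rfl).app _) (Iso.refl _))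
  obtain ⟨b, n, X, i, hi⟩ := exists_shift_top P
  have hP : ∀ (Y : A) (m : ℤ), Bij G P (((DEquiv.singleB A).obj Y)⟦m⟧) := fun Y m =>
    ((h' n _ X i hi Y (-m - b)).shift m).of_iso
      ((shiftFunctorAdd' _ (-m - b) m (-b) (by omega)).symm.app _ ≪≫
        (shiftFunctorCompIsoId _ b (-b) (by omega)).app P) (Iso.refl _)
  have h'' : ∀ (n : ℕ) (K : DerivedCategory.Bounded A) (X : A) (i : (DEquiv.singleB A).obj X ⟶ K), Top n K X i →
      ∀ m : ℤ, Bij G P (K⟦m⟧) := by
    intro n
    induction n with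
    | zero =>
      intro K X i (hi : IsIso i) m
      exact (hP X m).of_iso (Iso.refl _) ((shiftFunctor _ m).mapIso (asIso i))
    | succ n ih =>
      rintro K X i ⟨K', X', i', δ, g, hK', hT⟩ m
      exact Bij.devissage_tgt (Triangle.shift_distinguished _ hT m)
        (hP X m) (ih K' X' i' hK' m)
        ((ih K' X' i' hK' (m + 1)).of_iso (Iso.refl _) ((shiftFunctorAdd' _ m 1 (m + 1) rfl).app _))
        ((hP X (m + 1)).of_iso (Iso.refl _) ((shiftFunctorAdd' _ m 1 (m + 1) rfl).app _))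
  obtain ⟨b', n', X', i', hi'⟩ := exists_shift_top R
  exact (h'' n' _ X' i' hi' (-b')).of_iso (Iso.refl _) ((shiftFunctorCompIsoId _ b' (-b') (by omega)).app R)

end Bij

section FF

variable {D : Type u'} [Category.{v'} D] [Preadditive D] [HasZeroObject D] [HasShift D ℤ]
  [∀ n : ℤ, (shiftFunctor D n).Additive] [Pretriangulated D]
  (F F' : DerivedCategory.Bounded A ⥤ D) [F.CommShift ℤ] [F.IsTriangulated]
  [F'.CommShift ℤ] [F'.IsTriangulated] [F.Full] [F.Faithful]
  (θ : DEquiv.singleB A ⋙ F ≅ DEquiv.singleB A ⋙ F')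

theorem exists_shortExact_triangle {Z X' X : A} (a : Z ⟶ X') (p : X' ⟶ X) (w : a ≫ p = 0)
    (hS : (ShortComplex.mk a p w).ShortExact) :
    ∃ e : (DEquiv.singleB A).obj X ⟶ ((DEquiv.singleB A).obj Z)⟦(1 : ℤ)⟧,
      Triangle.mk ((DEquiv.singleB A).map a) ((DEquiv.singleB A).map p) e ∈ distTriang (DerivedCategory.Bounded A) := by
  refine ⟨ObjectProperty.homMk (hS.singleδ ≫
    ((t (C := A)).bounded.ι.commShiftIso (1 : ℤ)).inv.app ((DEquiv.singleB A).obj Z)), ?_⟩
  refine isomorphic_distinguished _ hS.singleTriangle_distinguished _ ?_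
  refine Triangle.isoMk _ _ (Iso.refl _) (Iso.refl _) (Iso.refl _) ?_ ?_ ?_
  · change (singleFunctor A 0).map a ≫ 𝟙 _ = 𝟙 _ ≫ (singleFunctor A 0).map a
    rw [Category.comp_id, Category.id_comp]
  · change (singleFunctor A 0).map p ≫ 𝟙 _ = 𝟙 _ ≫ (singleFunctor A 0).map p
    rw [Category.comp_id, Category.id_comp]
  · change ((hS.singleδ ≫ ((t (C := A)).bounded.ι.commShiftIso (1 : ℤ)).inv.app ((DEquiv.singleB A).obj Z)) ≫
      ((t (C := A)).bounded.ι.commShiftIso (1 : ℤ)).hom.app ((DEquiv.singleB A).obj Z)) ≫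
        (shiftFunctor _ (1 : ℤ)).map (𝟙 ((singleFunctor A 0).obj Z)) = 𝟙 _ ≫ hS.singleδ
    erw [CategoryTheory.Functor.map_id, Category.comp_id, Category.assoc, Iso.inv_hom_id_app,
      Category.comp_id, Category.id_comp]

theorem exists_shortExact (X Y : A) (ξ : (DEquiv.singleB A).obj X ⟶ ((DEquiv.singleB A).obj Y)⟦(1 : ℤ)⟧) :
    ∃ (E : A) (a : Y ⟶ E) (b : E ⟶ X),
      Triangle.mk ((DEquiv.singleB A).map a) ((DEquiv.singleB A).map b) ξ ∈ distTriang (DerivedCategory.Bounded A) := by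
  obtain ⟨C, f, g, hT⟩ := distinguished_cocone_triangle₂ ξ
  have hι := (t (C := A)).bounded.ι.map_distinguished _ hT
  have : C.obj.IsGE 0 := t.isGE₂ _ hι 0 (singleB_isGE Y) (singleB_isGE X)
  have : C.obj.IsLE 0 := t.isLE₂ _ hι 0 (singleB_isLE Y) (singleB_isLE X)
  obtain ⟨E, ⟨e⟩⟩ := exists_iso_singleFunctor_obj_of_isGE_of_isLE C.obj 0
  let e' : C ≅ (DEquiv.singleB A).obj E := ObjectProperty.isoMk _ e
  obtain ⟨a, ha⟩ := (DEquiv.singleB A).map_surjective (f ≫ e'.hom)
  obtain ⟨b, hb⟩ := (DEquiv.singleB A).map_surjective (e'.inv ≫ g)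
  exact ⟨E, a, b, isomorphic_distinguished _ hT _ (Triangle.isoMk _ _ (Iso.refl _) e'.symm (Iso.refl _)
    (by simp [ha]) (by simp [hb]) (by simp))⟩

include θ in
theorem map_δ {Z X' X : A} (a : Z ⟶ X') (p : X' ⟶ X)
    (e : (DEquiv.singleB A).obj X ⟶ ((DEquiv.singleB A).obj Z)⟦(1 : ℤ)⟧)
    (hT : Triangle.mk ((DEquiv.singleB A).map a) ((DEquiv.singleB A).map p) e ∈ distTriang (DerivedCategory.Bounded A)) :
    F'.map e = θ.inv.app X ≫ F.map e ≫ (F.commShiftIso (1 : ℤ)).hom.app _ ≫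
      (shiftFunctor D (1 : ℤ)).map (θ.hom.app Z) ≫ (F'.commShiftIso (1 : ℤ)).inv.app _ := by
  have hcomm : F.map ((DEquiv.singleB A).map a) ≫ θ.hom.app X' = θ.hom.app Z ≫ F'.map ((DEquiv.singleB A).map a) :=
    θ.hom.naturality a
  obtain ⟨c, hc, hc'⟩ : ∃ c : F.obj ((DEquiv.singleB A).obj X) ⟶ F'.obj ((DEquiv.singleB A).obj X),
      F.map ((DEquiv.singleB A).map p) ≫ c = θ.hom.app X' ≫ F'.map ((DEquiv.singleB A).map p) ∧
      (F.map e ≫ (F.commShiftIso (1 : ℤ)).hom.app _) ≫ (shiftFunctor D (1 : ℤ)).map (θ.hom.app Z) =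
        c ≫ F'.map e ≫ (F'.commShiftIso (1 : ℤ)).hom.app _ :=
    complete_distinguished_triangle_morphism _ _ (F.map_distinguished _ hT)
      (F'.map_distinguished _ hT) (θ.hom.app Z) (θ.hom.app X') hcomm
  let θX : F.obj ((DEquiv.singleB A).obj X) ⟶ F'.obj ((DEquiv.singleB A).obj X) := θ.hom.app X
  have hcθ : c = θX := by
    rw [← sub_eq_zero]
    obtain ⟨g, hg⟩ := Triangle.yoneda_exact₃ _ (F.map_distinguished _ hT) (c - θX) (by
      change F.map ((DEquiv.singleB A).map p) ≫ (c - θX) = 0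
      rw [Preadditive.comp_sub, hc, sub_eq_zero]
      exact (θ.hom.naturality p).symm)
    obtain ⟨g₀, hg₀⟩ := F.map_surjective ((F.commShiftIso (1 : ℤ)).hom.app _ ≫ g ≫ θ.inv.app X)
    have h0 : g₀ = 0 := ObjectProperty.hom_ext _ <| by
      let sZ := (DEquiv.singleB A).obj Z
      have h1 : (sZ.obj⟦(1 : ℤ)⟧).IsLE (-1) := t.isLE_shift sZ.obj 0 1 (-1) (by omega)
      have : ((sZ⟦(1 : ℤ)⟧ : DerivedCategory.Bounded A)).obj.IsLE (-1) :=
        have ee : sZ.obj⟦(1 : ℤ)⟧ ≅ ((sZ⟦(1 : ℤ)⟧ : DerivedCategory.Bounded A)).obj :=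
          ((t (C := A)).bounded.ι.commShiftIso (1 : ℤ)).symm.app sZ
        t.isLE_of_iso ee _
      exact t.zero_of_isLE_of_isGE g₀.hom (-1) 0 (by omega) this (singleB_isGE X)
    rw [h0, Functor.map_zero] at hg₀
    have hg0 : g = 0 := by
      rw [← cancel_epi ((F.commShiftIso (1 : ℤ)).hom.app _), ← cancel_mono (θ.inv.app X), comp_zero,
        zero_comp, Category.assoc]
      exact hg₀.symm
    rw [hg, hg0, comp_zero]
  subst hcθ
  rw [Category.assoc] at hc'
  rw [reassoc_of% hc']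
  simp
  exact (θ.inv_hom_id_app_assoc X _).symm

variable (h2 : ∀ K : DerivedCategory.Bounded A, Nonempty (F.obj K ≅ F'.obj K))

include θ h2 in
theorem bij_single (X Y : A) (q : ℤ) :
    Bij F' ((DEquiv.singleB A).obj X) (((DEquiv.singleB A).obj Y)⟦q⟧) := by
  rcases lt_trichotomy q 0 with hq | rfl | hq
  · obtain ⟨u⟩ := h2 ((DEquiv.singleB A).obj X)
    obtain ⟨v⟩ := h2 (((DEquiv.singleB A).obj Y)⟦q⟧)
    refine ⟨fun f g _ => by rw [neg_hom_eq_zero X Y q hq f, neg_hom_eq_zero X Y q hq g], fun φ => ?_⟩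
    obtain ⟨f, hf⟩ := F.map_surjective (u.hom ≫ φ ≫ v.inv)
    refine ⟨0, ?_⟩
    rw [neg_hom_eq_zero X Y q hq f, Functor.map_zero] at hf
    change F'.map 0 = φ
    rw [Functor.map_zero, ← cancel_epi u.hom, ← cancel_mono v.inv, comp_zero, zero_comp, Category.assoc, ← hf]
  · suffices h : Bij F' ((DEquiv.singleB A).obj X) ((DEquiv.singleB A).obj Y) from
      h.of_iso (Iso.refl _) ((shiftFunctorZero _ ℤ).app _).symm
    constructor
    · intro f g hfg
      obtain ⟨f, rfl⟩ := (DEquiv.singleB A).map_surjective f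
      obtain ⟨g, rfl⟩ := (DEquiv.singleB A).map_surjective g
      apply F.map_injective
      change (DEquiv.singleB A ⋙ F).map f = (DEquiv.singleB A ⋙ F).map g
      rw [← NatIso.naturality_2 θ f, ← NatIso.naturality_2 θ g]
      simp only [Functor.comp_map, show F'.map ((DEquiv.singleB A).map f) = _ from hfg]
    · intro φ
      obtain ⟨f, hf⟩ := F.map_surjective (θ.hom.app X ≫ φ ≫ θ.inv.app Y)
      obtain ⟨f, rfl⟩ := (DEquiv.singleB A).map_surjective f
      refine ⟨(DEquiv.singleB A).map f, ?_⟩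
      change (DEquiv.singleB A ⋙ F').map f = φ
      rw [← NatIso.naturality_1 θ f, Functor.comp_map, hf]
      simp
  · obtain ⟨n, rfl⟩ : ∃ n : ℕ, q = 1 + (n : ℤ) := ⟨(q - 1).toNat, by omega⟩
    clear hq
    induction n generalizing X Y with
    | zero =>
      rw [show (1 : ℤ) + ((0 : ℕ) : ℤ) = 1 from rfl]
      constructor
      · intro ξ ξ' h
        have key : ∀ η : (DEquiv.singleB A).obj X ⟶ ((DEquiv.singleB A).obj Y)⟦(1 : ℤ)⟧,
            F'.map η = θ.inv.app X ≫ F.map η ≫ (F.commShiftIso (1 : ℤ)).hom.app _ ≫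
              (shiftFunctor D (1 : ℤ)).map (θ.hom.app Y) ≫ (F'.commShiftIso (1 : ℤ)).inv.app _ := fun η => by
          obtain ⟨E, a, b, hT⟩ := exists_shortExact X Y η
          exact map_δ F F' θ a b η hT
        have h' : F'.map ξ = F'.map ξ' := h
        rw [key, key, cancel_epi, cancel_mono] at h'
        exact F.map_injective h'
      · intro φ
        obtain ⟨ξ, hξ⟩ := F.map_surjective (θ.hom.app X ≫ φ ≫ (F'.commShiftIso (1 : ℤ)).hom.app _ ≫
          (shiftFunctor D (1 : ℤ)).map (θ.inv.app Y) ≫ (F.commShiftIso (1 : ℤ)).inv.app _)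
        obtain ⟨E, a, b, hT⟩ := exists_shortExact X Y ξ
        refine ⟨ξ, ?_⟩
        change F'.map ξ = φ
        rw [map_δ F F' θ a b ξ hT, hξ]
        simp [← Functor.map_comp_assoc]
    | succ n ih =>
      have hq' : (1 : ℤ) + n + 1 = 1 + ((n + 1 : ℕ) : ℤ) := by push_cast; omega
      have ih' : ∀ Z : A, Bij F' (((DEquiv.singleB A).obj Z)⟦(1 : ℤ)⟧)
          (((DEquiv.singleB A).obj Y)⟦(1 : ℤ) + ((n + 1 : ℕ) : ℤ)⟧) := fun Z =>
        ((ih Z Y).shift 1).of_iso (Iso.refl _) ((shiftFunctorAdd' _ _ _ _ hq').symm.app _)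
      constructor
      · intro ξ ξ' h
        rw [← sub_eq_zero]
        have h0 : F'.map (ξ - ξ') = 0 := by rw [Functor.map_sub, sub_eq_zero]; exact h
        obtain ⟨X', p, hp, hpξ⟩ := exists_epi_comp_eq_zero X Y _ (by omega) (ξ - ξ')
        obtain ⟨e, hT⟩ := exists_shortExact_triangle (kernel.ι p) p (kernel.condition p)
          { exact := ShortComplex.exact_kernel p, mono_f := inferInstanceAs (Mono (kernel.ι p)), epi_g := hp }
        obtain ⟨η, hη⟩ := Triangle.yoneda_exact₃ _ hT (ξ - ξ') hpξ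
        change ξ - ξ' = e ≫ η at hη
        rw [hη] at h0 ⊢
        have hG := F'.map_distinguished _ hT
        obtain ⟨w, hw⟩ := Triangle.yoneda_exact₃ _ (rot_of_distTriang _ hG)
          ((F'.commShiftIso (1 : ℤ)).inv.app _ ≫ F'.map η) (by
            change (F'.map e ≫ (F'.commShiftIso (1 : ℤ)).hom.app _) ≫ _ = 0
            simp only [Category.assoc]
            erw [Iso.hom_inv_id_app_assoc]
            rw [← Functor.map_comp, h0])
        obtain ⟨w₀, hw₀⟩ := (ih' X').2 ((F'.commShiftIso (1 : ℤ)).hom.app _ ≫ w)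
        have : η = (-(shiftFunctor _ (1 : ℤ)).map ((DEquiv.singleB A).map (kernel.ι p))) ≫ w₀ := (ih' _).1 (by
          change F'.map η = F'.map _
          change _ = (-(shiftFunctor D (1 : ℤ)).map (F'.map ((DEquiv.singleB A).map (kernel.ι p)))) ≫ w at hw
          have hn := (F'.commShiftIso (1 : ℤ)).hom.naturality ((DEquiv.singleB A).map (kernel.ι p))
          simp only [Functor.comp_map] at hn
          rw [← cancel_epi ((F'.commShiftIso (1 : ℤ)).inv.app _), hw, Functor.map_comp,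
            show F'.map w₀ = _ from hw₀, Functor.map_neg, Preadditive.neg_comp, Preadditive.neg_comp,
            Preadditive.comp_neg, neg_inj, reassoc_of% hn]
          erw [Iso.inv_hom_id_app_assoc])
        have h31 : e ≫ (shiftFunctor (DerivedCategory.Bounded A) (1 : ℤ)).map ((DEquiv.singleB A).map (kernel.ι p)) = 0 :=
          comp_distTriang_mor_zero₃₁ _ hT
        rw [this, ← Category.assoc, Preadditive.comp_neg, h31]
        simp
      · intro φ
        obtain ⟨v⟩ := h2 (((DEquiv.singleB A).obj Y)⟦(1 : ℤ) + ((n + 1 : ℕ) : ℤ)⟧)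
        obtain ⟨ξ, hξ⟩ := F.map_surjective (θ.hom.app X ≫ φ ≫ v.inv)
        obtain ⟨X', p, hp, hpξ⟩ := exists_epi_comp_eq_zero X Y _ (by omega) ξ
        obtain ⟨e, hT⟩ := exists_shortExact_triangle (kernel.ι p) p (kernel.condition p)
          { exact := ShortComplex.exact_kernel p, mono_f := inferInstanceAs (Mono (kernel.ι p)), epi_g := hp }
        obtain ⟨η, hη⟩ := Triangle.yoneda_exact₃ _ hT ξ hpξ
        change ξ = e ≫ η at hη
        obtain ⟨η', hη'⟩ := (ih' (kernel p)).2 ((F'.commShiftIso (1 : ℤ)).hom.app _ ≫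
          (shiftFunctor D (1 : ℤ)).map (θ.inv.app _) ≫ (F.commShiftIso (1 : ℤ)).inv.app _ ≫ F.map η ≫ v.hom)
        refine ⟨e ≫ η', ?_⟩
        change F'.map (e ≫ η') = φ
        rw [Functor.map_comp, map_δ F F' θ _ p e hT, show F'.map η' = _ from hη']
        have hξ' : θ.hom.app X ≫ φ ≫ v.inv = F.map e ≫ F.map η := by rw [← hξ, hη, Functor.map_comp]
        rw [← cancel_epi (θ.hom.app X), ← cancel_mono v.inv]
        simp only [Category.assoc]
        rw [hξ']
        simp [← Functor.map_comp_assoc]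

include θ h2 in
theorem fullyFaithful : F'.Full ∧ F'.Faithful :=
  ⟨⟨fun {P R} φ => (Bij.all (bij_single F F' θ h2) P R).2 φ⟩,
    ⟨fun {P R} {_ _} h => (Bij.all (bij_single F F' θ h2) P R).1 h⟩⟩

end FF

end Groth.Agent.Siblings17
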