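import Mathlib.CategoryTheory.Triangulated.Triangulated
import Mathlib.CategoryTheory.Triangulated.Yoneda
import Mathlib.CategoryTheory.Linear.Basic
import Mathlib.CategoryTheory.Linear.LinearFunctor
import Mathlib.LinearAlgebra.Dual.Lemmas

/-!
# A Serre functor is exact
-/

set_option autoImplicit false
set_option backward.isDefEq.respectTransparency false

universe w v u

open CategoryTheory CategoryTheory.Limits CategoryTheory.Pretriangulated Opposite

namespace Groth.Agent.TriSerre17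

variable {k : Type w} [Field k] {T : Type u} [Category.{v} T] [Preadditive T] [Linear k T]
  [∀ X Y : T, Module.Finite k (X ⟶ Y)]

section Trace

variable (S : T ≌ T) (c : ∀ X Y : T, (X ⟶ Y) ≃ₗ[k] Module.Dual k (Y ⟶ S.functor.obj X))

/-- The trace of the Serre pairing. -/
noncomputable def tr (X : T) : (X ⟶ S.functor.obj X) →ₗ[k] k := c X X (𝟙 X)

variable {S c}
  (hc₁ : ∀ (X Y Y' : T) (f : X ⟶ Y) (g : Y ⟶ Y'),
      c X Y' (f ≫ g) = (c X Y f) ∘ₗ Linear.leftComp k (S.functor.obj X) g)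
  (hc₂ : ∀ (X' X Y : T) (a : X' ⟶ X) (f : X ⟶ Y),
      c X' Y (a ≫ f) = (c X Y f) ∘ₗ Linear.rightComp k Y (S.functor.map a))

include hc₁ in
theorem c_eq_tr {X Y : T} (f : X ⟶ Y) (g : Y ⟶ S.functor.obj X) :
    c X Y f g = tr S c X (f ≫ g) := by
  have h := LinearMap.congr_fun (hc₁ X X Y (𝟙 X) f) g
  rw [Category.id_comp] at h
  exact h

include hc₁ hc₂ in
theorem tr_cyclic {A B : T} (f : A ⟶ B) (g : B ⟶ S.functor.obj A) :
    tr S c B (g ≫ S.functor.map f) = tr S c A (f ≫ g) := by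
  rw [← c_eq_tr hc₁ f g]
  have h := LinearMap.congr_fun (hc₂ A B B f (𝟙 B)) g
  rw [Category.comp_id] at h
  exact h.symm

include hc₁ in
theorem eq_zero_of_tr {X Y : T} (g : Y ⟶ S.functor.obj X)
    (h : ∀ f : X ⟶ Y, tr S c X (f ≫ g) = 0) : g = 0 := by
  refine (Module.forall_dual_apply_eq_zero_iff k g).1 fun φ => ?_
  obtain ⟨f, rfl⟩ := (c X Y).surjective φ
  rw [c_eq_tr hc₁]
  exact h f

include hc₁ in
theorem exists_of_functional {X Y : T} (Φ : (X ⟶ Y) →ₗ[k] k) :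
    ∃ g : Y ⟶ S.functor.obj X, ∀ f : X ⟶ Y, tr S c X (f ≫ g) = Φ f := by
  obtain ⟨g, hg⟩ := (Module.evalEquiv k (Y ⟶ S.functor.obj X)).surjective
    (Φ ∘ₗ (c X Y).symm.toLinearMap)
  refine ⟨g, fun f => ?_⟩
  have h := LinearMap.congr_fun hg (c X Y f)
  simp only [Module.evalEquiv_apply, Module.Dual.eval_apply, LinearMap.comp_apply,
    LinearEquiv.coe_coe, LinearEquiv.symm_apply_apply] at h
  rw [← h, c_eq_tr hc₁]

end Trace

section Exact

variable [HasZeroObject T] [HasShift T ℤ] [∀ n : ℤ, (shiftFunctor T n).Additive]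
  [∀ n : ℤ, (shiftFunctor T n).Linear k]

/-- Inverse of shifting by one on morphisms. -/
noncomputable def unsh (X Y : T) : (X⟦(1 : ℤ)⟧ ⟶ Y⟦(1 : ℤ)⟧) →ₗ[k] (X ⟶ Y) :=
  (LinearEquiv.ofBijective ((shiftFunctor T (1 : ℤ)).mapLinearMap k (X := X) (Y := Y))
    ⟨(shiftFunctor T (1 : ℤ)).map_injective, (shiftFunctor T (1 : ℤ)).map_surjective⟩).symm.toLinearMap

theorem unsh_map {X Y : T} (f : X ⟶ Y) :
    unsh (k := k) X Y ((shiftFunctor T (1 : ℤ)).map f) = f :=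
  LinearEquiv.symm_apply_apply (LinearEquiv.ofBijective ((shiftFunctor T (1 : ℤ)).mapLinearMap k
    (X := X) (Y := Y)) ⟨(shiftFunctor T (1 : ℤ)).map_injective, (shiftFunctor T (1 : ℤ)).map_surjective⟩) f

variable {S : T ≌ T} {c : ∀ X Y : T, (X ⟶ Y) ≃ₗ[k] Module.Dual k (Y ⟶ S.functor.obj X)}
  (hc₁ : ∀ (X Y Y' : T) (f : X ⟶ Y) (g : Y ⟶ Y'),
      c X Y' (f ≫ g) = (c X Y f) ∘ₗ Linear.leftComp k (S.functor.obj X) g)
  (hc₂ : ∀ (X' X Y : T) (a : X' ⟶ X) (f : X ⟶ Y),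
      c X' Y (a ≫ f) = (c X Y f) ∘ₗ Linear.rightComp k Y (S.functor.map a))

include hc₁ in
theorem exists_comm (A : T) :
    ∃ j : (S.functor.obj A)⟦(1 : ℤ)⟧ ⟶ S.functor.obj (A⟦(1 : ℤ)⟧), IsIso j ∧
      ∀ w : A⟦(1 : ℤ)⟧ ⟶ (S.functor.obj A)⟦(1 : ℤ)⟧,
        tr S c _ (w ≫ j) = - tr S c A (unsh (k := k) _ _ w) := by
  obtain ⟨j, hj⟩ := exists_of_functional hc₁ (-(tr S c A ∘ₗ unsh (k := k) A (S.functor.obj A)))
  refine ⟨j, ?_, hj⟩
  suffices h : ∀ X : T, Function.Bijective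
      (fun w : X⟦(1 : ℤ)⟧ ⟶ (S.functor.obj A)⟦(1 : ℤ)⟧ => w ≫ j) by
    obtain ⟨Y, ⟨i⟩⟩ : ∃ Y : T, Nonempty (Y⟦(1 : ℤ)⟧ ≅ S.functor.obj (A⟦(1 : ℤ)⟧)) :=
      ⟨_, ⟨(shiftFunctor T (1 : ℤ)).objObjPreimageIso _⟩⟩
    obtain ⟨w, hw⟩ := (h Y).2 i.hom
    refine ⟨⟨i.inv ≫ w, ?_, ?_⟩⟩
    · apply (h (S.functor.obj A)).1
      dsimp
      rw [Category.assoc, Category.assoc, show w ≫ j = i.hom from hw, i.inv_hom_id, Category.comp_id,
        Category.id_comp]
    · rw [Category.assoc, show w ≫ j = i.hom from hw, i.inv_hom_id]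
  intro X
  have key : ∀ (x : A ⟶ X) (w : X ⟶ S.functor.obj A),
      tr S c _ ((shiftFunctor T (1 : ℤ)).map x ≫ (shiftFunctor T (1 : ℤ)).map w ≫ j) =
        - tr S c A (x ≫ w) := fun x w => by
    rw [← Category.assoc, ← Functor.map_comp, hj, LinearMap.neg_apply, LinearMap.comp_apply, unsh_map]
  constructor
  · intro w₁ w₂ h
    obtain ⟨a, rfl⟩ := (shiftFunctor T (1 : ℤ)).map_surjective w₁
    obtain ⟨b, rfl⟩ := (shiftFunctor T (1 : ℤ)).map_surjective w₂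
    congr 1
    refine sub_eq_zero.1 (eq_zero_of_tr hc₁ _ fun x => ?_)
    have h1 := key x a
    rw [show (shiftFunctor T (1 : ℤ)).map a ≫ j = (shiftFunctor T (1 : ℤ)).map b ≫ j from h, key x b,
      neg_inj] at h1
    rw [Preadditive.comp_sub, map_sub, h1, sub_self]
  · intro v
    obtain ⟨w₀, hw₀⟩ := exists_of_functional hc₁ (-(tr S c (A⟦(1 : ℤ)⟧) ∘ₗ
      Linear.rightComp k (A⟦(1 : ℤ)⟧) v ∘ₗ (shiftFunctor T (1 : ℤ)).mapLinearMap k (X := A) (Y := X)))
    refine ⟨(shiftFunctor T (1 : ℤ)).map w₀, sub_eq_zero.1 (eq_zero_of_tr hc₁ _ fun f => ?_)⟩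
    obtain ⟨x, rfl⟩ := (shiftFunctor T (1 : ℤ)).map_surjective f
    rw [Preadditive.comp_sub, map_sub, key x w₀, hw₀]
    simp

variable [Pretriangulated T] [IsTriangulated T] [S.functor.Additive] [S.functor.Linear k]

include hc₁ hc₂ in
theorem exists_fill (j : ∀ A : T, (S.functor.obj A)⟦(1 : ℤ)⟧ ⟶ S.functor.obj (A⟦(1 : ℤ)⟧))
    (hj : ∀ (A : T) (w : A⟦(1 : ℤ)⟧ ⟶ (S.functor.obj A)⟦(1 : ℤ)⟧),
      tr S c _ (w ≫ j A) = - tr S c A (unsh (k := k) _ _ w))
    {A B C W : T} {f : A ⟶ B} {g : B ⟶ C} {h : C ⟶ A⟦(1 : ℤ)⟧}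
    (hT : Triangle.mk f g h ∈ distTriang T) {g' : S.functor.obj B ⟶ W}
    {h' : W ⟶ (S.functor.obj A)⟦(1 : ℤ)⟧}
    (hW : Triangle.mk (S.functor.map f) g' h' ∈ distTriang T) :
    ∃ φ : W ⟶ S.functor.obj C, g' ≫ φ = S.functor.map g ∧ φ ≫ S.functor.map h = h' ≫ j A := by
  let L : ((C ⟶ S.functor.obj B) × (A⟦(1 : ℤ)⟧ ⟶ W)) →ₗ[k] (C ⟶ W) :=
    LinearMap.coprod (Linear.rightComp k C g') (Linear.leftComp k W h)
  let ψ : ((C ⟶ S.functor.obj B) × (A⟦(1 : ℤ)⟧ ⟶ W)) →ₗ[k] k :=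
    LinearMap.coprod (tr S c B ∘ₗ Linear.leftComp k (S.functor.obj B) g)
      (-(tr S c A ∘ₗ unsh (k := k) A (S.functor.obj A) ∘ₗ Linear.rightComp k (A⟦(1 : ℤ)⟧) h'))
  have hker : LinearMap.ker L ≤ LinearMap.ker ψ := by
    rintro ⟨y, z⟩ hyz
    change y ≫ g' + h ≫ z = 0 at hyz
    obtain ⟨v, hv, hv'⟩ := complete_distinguished_triangle_morphism₁ (Triangle.mk f g h).rotate
      (Triangle.mk (S.functor.map f) g' h') (rot_of_distTriang _ hT) hW y (-z)
      (by simpa using (eq_neg_of_add_eq_zero_left hyz).symm)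
    change g ≫ y = v ≫ S.functor.map f at hv
    change (-(shiftFunctor T (1 : ℤ)).map f) ≫ (shiftFunctor T (1 : ℤ)).map v = (-z) ≫ h' at hv'
    rw [Preadditive.neg_comp, Preadditive.neg_comp, neg_inj, ← Functor.map_comp] at hv'
    change tr S c B (g ≫ y) + (-(tr S c A (unsh (k := k) _ _ (z ≫ h')))) = 0
    rw [hv, ← hv', unsh_map, tr_cyclic hc₁ hc₂, add_neg_cancel]
  obtain ⟨Φ, hΦ⟩ : ψ ∈ LinearMap.range L.dualMap := by
    rw [LinearMap.range_dualMap_eq_dualAnnihilator_ker, Submodule.mem_dualAnnihilator]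
    exact fun x hx => hker hx
  obtain ⟨φ, hφ⟩ := exists_of_functional hc₁ Φ
  refine ⟨φ, sub_eq_zero.1 (eq_zero_of_tr hc₁ _ fun y => ?_),
    sub_eq_zero.1 (eq_zero_of_tr hc₁ _ fun z => ?_)⟩
  · have := LinearMap.congr_fun hΦ (y, 0)
    simp [L, ψ] at this
    rw [Preadditive.comp_sub, map_sub, ← Category.assoc, hφ, this, tr_cyclic hc₁ hc₂, sub_self]
  · have := LinearMap.congr_fun hΦ (0, z)
    simp [L, ψ] at this
    rw [Preadditive.comp_sub, map_sub, ← Category.assoc z, tr_cyclic hc₁ hc₂, ← Category.assoc z,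
      hj, ← Category.assoc, hφ, this, sub_self]

include hc₁ hc₂ in
theorem exists_exact :
    ∃ e : shiftFunctor T (1 : ℤ) ⋙ S.functor ≅ S.functor ⋙ shiftFunctor T (1 : ℤ),
      ∀ T' ∈ distTriang T,
        Triangle.mk (S.functor.map T'.mor₁) (S.functor.map T'.mor₂)
          (S.functor.map T'.mor₃ ≫ e.hom.app T'.obj₁) ∈ distTriang T := by
  choose j hiso hj using exists_comm hc₁
  have hnat : ∀ {A B : T} (f : A ⟶ B),
      (shiftFunctor T (1 : ℤ)).map (S.functor.map f) ≫ j B =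
        j A ≫ S.functor.map ((shiftFunctor T (1 : ℤ)).map f) := fun {A B} f => by
    refine sub_eq_zero.1 (eq_zero_of_tr hc₁ _ fun w => ?_)
    obtain ⟨u, rfl⟩ := (shiftFunctor T (1 : ℤ)).map_surjective w
    rw [Preadditive.comp_sub, map_sub, ← Category.assoc, ← Category.assoc, ← Functor.map_comp,
      hj, tr_cyclic hc₁ hc₂, ← Category.assoc, ← Functor.map_comp, hj, unsh_map, unsh_map,
      tr_cyclic hc₁ hc₂, sub_self]
  let e : shiftFunctor T (1 : ℤ) ⋙ S.functor ≅ S.functor ⋙ shiftFunctor T (1 : ℤ) :=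
    (NatIso.ofComponents (fun A => @asIso _ _ _ _ (j A) (hiso A)) (fun f => hnat f)).symm
  have hej : ∀ A, e.hom.app A = @inv _ _ _ _ (j A) (hiso A) := fun A => rfl
  refine ⟨e, fun T' hT' => ?_⟩
  obtain ⟨A, B, C, f, g, h⟩ := T'
  obtain ⟨W, g', h', hW⟩ := distinguished_cocone_triangle (S.functor.map f)
  obtain ⟨φ, hφg, hφh⟩ := exists_fill hc₁ hc₂ j hj hT' hW
  have := hiso A
  have hφh' : φ ≫ S.functor.map h ≫ e.hom.app A = h' := by
    rw [← Category.assoc, hφh, hej, Category.assoc, IsIso.hom_inv_id, Category.comp_id]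
  have hbij : ∀ X : T, Function.Bijective (fun w : S.functor.obj X ⟶ W => w ≫ φ) := by
    intro X
    constructor
    · intro w₁ w₂ hw
      rw [← sub_eq_zero]
      have h0 : (w₁ - w₂) ≫ φ = 0 := by rw [Preadditive.sub_comp, sub_eq_zero]; exact hw
      obtain ⟨b, hb⟩ := Triangle.coyoneda_exact₃ _ hW (w₁ - w₂) (by
        change (w₁ - w₂) ≫ h' = 0
        rw [← hφh', ← Category.assoc, h0, zero_comp])
      change w₁ - w₂ = b ≫ g' at hb
      obtain ⟨b₀, rfl⟩ := S.functor.map_surjective b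
      have hb0 : b₀ ≫ g = 0 := S.functor.map_injective (by
        rw [Functor.map_comp, Functor.map_zero, ← hφg, ← Category.assoc, ← hb, h0])
      obtain ⟨a, rfl⟩ := Triangle.coyoneda_exact₂ _ hT' b₀ hb0
      have h12 : S.functor.map f ≫ g' = 0 := comp_distTriang_mor_zero₁₂ _ hW
      rw [hb, Functor.map_comp, Category.assoc]
      change _ ≫ S.functor.map f ≫ g' = 0
      rw [h12, comp_zero]
    · intro v
      obtain ⟨v₀, rfl⟩ := S.functor.map_surjective v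
      have h23 : h ≫ (shiftFunctor T (1 : ℤ)).map f = 0 := comp_distTriang_mor_zero₃₁ _ hT'
      let a := S.functor.map (v₀ ≫ h) ≫ e.hom.app A
      have ha : a ≫ (shiftFunctor T (1 : ℤ)).map (S.functor.map f) = 0 := by
        have hn := e.hom.naturality f
        simp only [Functor.comp_map] at hn
        change _ = 0
        simp only [a, Category.assoc]
        erw [← hn]
        rw [← Category.assoc, ← Functor.map_comp, Category.assoc, h23, comp_zero, Functor.map_zero, zero_comp]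
      obtain ⟨w, hw⟩ : ∃ w : S.functor.obj X ⟶ W, a = w ≫ h' := Triangle.coyoneda_exact₁ _ hW a ha
      have hd : (S.functor.map v₀ - w ≫ φ) ≫ S.functor.map h = 0 := by
        rw [← cancel_mono (e.hom.app A), zero_comp, Preadditive.sub_comp, Preadditive.sub_comp,
          Category.assoc w, Category.assoc, Category.assoc, Category.assoc, hφh', ← hw, ← Category.assoc,
          ← Functor.map_comp, sub_self]
      obtain ⟨d₀, hd₀⟩ := S.functor.map_surjective (S.functor.map v₀ - w ≫ φ)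
      obtain ⟨b, hb⟩ := Triangle.coyoneda_exact₃ _ hT' d₀ (S.functor.map_injective (by
        change S.functor.map (d₀ ≫ h) = _
        rw [Functor.map_comp, hd₀, hd, Functor.map_zero]))
      change d₀ = b ≫ g at hb
      refine ⟨w + S.functor.map b ≫ g', ?_⟩
      change (w + S.functor.map b ≫ g') ≫ φ = _
      rw [Preadditive.add_comp, Category.assoc, hφg, ← Functor.map_comp, ← hb, hd₀, add_sub_cancel]
  have : IsIso φ := by
    obtain ⟨X, ⟨i⟩⟩ : ∃ X, Nonempty (S.functor.obj X ≅ W) := ⟨_, ⟨S.counitIso.app W⟩⟩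
    obtain ⟨w, hw⟩ := (hbij C).2 (𝟙 _)
    refine ⟨⟨w, ?_, hw⟩⟩
    apply (cancel_epi i.hom).1
    apply (hbij X).1
    change (i.hom ≫ φ ≫ w) ≫ φ = (i.hom ≫ 𝟙 _) ≫ φ
    rw [Category.assoc, Category.assoc, show w ≫ φ = 𝟙 _ from hw, Category.comp_id, Category.comp_id]
  refine isomorphic_distinguished _ hW _ (Iso.symm (Triangle.isoMk _ _ (Iso.refl _) (Iso.refl _) (asIso φ) ?_ ?_ ?_))
  · simp
  · simpa using hφg
  · simpa using hφh'.symm

end Exact

end Groth.Agent.TriSerre17
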